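import Groth.Agent.H18Et.RestrictionClass
import Groth.Prelude.Def_EtLim

/-!
# Functoriality of the pullback of étale cohomology classes in every degree
-/

set_option autoImplicit false
set_option backward.isDefEq.respectTransparency false
set_option backward.isDefEq.respectTransparency.types false

universe u

open CategoryTheory CategoryTheory.Limits AlgebraicGeometry Opposite Abelian

namespace Groth.Agent.H26EtPull

variable {X Y Z : Scheme.{u}}

theorem HF_map_apply {F G : EtCoh.Ab X} (g : F ⟶ G) (n : ℕ) (x : EtCoh.H X F n) :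
    ((EtCoh.HF X n).map g).hom x = x.comp (Ext.mk₀ g) (add_zero n) := rfl

theorem Hpull_eq (f : X ⟶ Y) [PreservesFiniteLimits (EtCoh.pull f)] (G : EtCoh.Ab Y) (n : ℕ) (x : EtCoh.H Y G n) :
    EtCore.Hpull f G n x = (Ext.mk₀ (EtCore.pullConst f ℤ).inv).comp (x.mapExactFunctor (EtCoh.pull f)) (zero_add n) :=
  rfl

/-- Pullback of classes commutes with maps of coefficients. -/
theorem Hpull_map (f : X ⟶ Y) [PreservesFiniteLimits (EtCoh.pull f)] {G G' : EtCoh.Ab Y} (a : G ⟶ G') (n : ℕ)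
    (x : EtCoh.H Y G n) :
    EtCore.Hpull f G' n (((EtCoh.HF Y n).map a).hom x) =
      ((EtCoh.HF X n).map ((EtCoh.pull f).map a)).hom (EtCore.Hpull f G n x) := by
  rw [HF_map_apply, HF_map_apply, Hpull_eq, Hpull_eq, Ext.mapExactFunctor_comp, Ext.mapExactFunctor_mk₀,
    ← Ext.comp_assoc_of_third_deg_zero]

theorem Hpull_mk₀ (f : X ⟶ Y) [PreservesFiniteLimits (EtCoh.pull f)] (G : EtCoh.Ab Y) (φ : EtCoh.const Y ℤ ⟶ G) :
    EtCore.Hpull f G 0 (Ext.mk₀ φ) = Ext.mk₀ ((EtCore.pullConst f ℤ).inv ≫ (EtCoh.pull f).map φ) := by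
  rw [Hpull_eq, Ext.mapExactFunctor_mk₀, Ext.mk₀_comp_mk₀]

/-- Compatibility of the constant sheaf with composition of pullbacks. -/
theorem pullConst_comp (f : X ⟶ Y) (t : Y ⟶ Z) :
    (EtCore.pullConst (f ≫ t) ℤ).inv ≫ (EtCore.pullComp f t).hom.app (EtCoh.const Z ℤ) =
      (EtCore.pullConst f ℤ).inv ≫ (EtCoh.pull f).map (EtCore.pullConst t ℤ).inv := by
  haveI := H18Et.pull_preservesFiniteLimits f
  haveI := H18Et.pull_preservesFiniteLimits t
  haveI := H18Et.pull_preservesFiniteLimits (f ≫ t)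
  let C := EtCoh.const Z ℤ
  let e : EtCoh.H Z C 0 := Ext.mk₀ (𝟙 C)
  have h1 : ((EtCoh.HF X 0).map ((EtCore.pullComp f t).hom.app C)).hom (EtCore.Hpull (f ≫ t) C 0 e) =
      EtCore.Hpull f _ 0 (EtCore.Hpull t C 0 e) := by
    refine (Sheaf.H.equiv₀ _ (EtCore.topIsTerminal X)).injective ?_
    show Sheaf.H.equiv₀ _ _ (Sheaf.H.map _ 0 _) = _
    rw [← Sheaf.H.equiv₀_naturality, H18Et.PullSections.equiv₀_Hpull]
    refine Eq.trans ?_ (H18Et.PullSections.equiv₀_Hpull f ((EtCoh.pull t).obj C) _).symm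
    refine Eq.trans ?_ (congrArg (fun z => (H18Et.PullSections.res0 f ((EtCoh.pull t).obj C)) z)
      (H18Et.PullSections.equiv₀_Hpull t C e).symm)
    exact congr($(H18Et.PullSections.res0_comp f t C) _)
  have hl : ∀ {W : Scheme.{u}} (g : W ⟶ Z) [PreservesFiniteLimits (EtCoh.pull g)],
      EtCore.Hpull g C 0 e = Ext.mk₀ (EtCore.pullConst g ℤ).inv := fun g _ =>
    (Hpull_mk₀ g C (𝟙 C)).trans (congrArg Ext.mk₀
      ((congrArg (fun k => _ ≫ k) ((EtCoh.pull g).map_id C)).trans (Category.comp_id _)))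
  rw [hl (f ≫ t), hl t] at h1
  refine (Ext.mk₀_bijective _ _).injective ?_
  refine Eq.trans ?_ (h1.trans (Hpull_mk₀ f _ _))
  exact (Ext.mk₀_comp_mk₀ _ _).symm

/-- Pullback of classes is functorial. -/
theorem Hpull_comp (f : X ⟶ Y) (t : Y ⟶ Z) [PreservesFiniteLimits (EtCoh.pull f)]
    [PreservesFiniteLimits (EtCoh.pull t)] [PreservesFiniteLimits (EtCoh.pull (f ≫ t))]
    (G : EtCoh.Ab Z) (n : ℕ) (x : EtCoh.H Z G n) :
    EtCore.Hpull f _ n (EtCore.Hpull t G n x) =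
      ((EtCoh.HF X n).map ((EtCore.pullComp f t).hom.app G)).hom (EtCore.Hpull (f ≫ t) G n x) := by
  haveI : EnoughInjectives (EtCoh.Ab Z) := inferInstance
  have hnt := H18Ext.mapExactFunctor_natTrans (EtCoh.pull t) (EtCoh.pull f) (EtCoh.pull (f ≫ t))
    (EtCore.pullComp f t).inv _ n G x
  rw [HF_map_apply, Hpull_eq, Hpull_eq, Hpull_eq]
  have hG : ((EtCore.pullComp f t).inv.app G) ≫ (EtCore.pullComp f t).hom.app G = 𝟙 _ :=
    (EtCore.pullComp f t).inv_hom_id_app G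
  have hA : (EtCore.pullConst f ℤ).inv ≫ (EtCoh.pull f).map (EtCore.pullConst t ℤ).inv ≫
      (EtCore.pullComp f t).inv.app (EtCoh.const Z ℤ) = (EtCore.pullConst (f ≫ t) ℤ).inv := by
    rw [← Category.assoc, ← pullConst_comp, Category.assoc]
    exact (congrArg (fun k => _ ≫ k) ((EtCore.pullComp f t).hom_inv_id_app _)).trans (Category.comp_id _)
  have h2 : ((x.mapExactFunctor (EtCoh.pull t)).mapExactFunctor (EtCoh.pull f)) =
      ((Ext.mk₀ ((EtCore.pullComp f t).inv.app (EtCoh.const Z ℤ))).comp (x.mapExactFunctor (EtCoh.pull (f ≫ t)))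
        (zero_add n)).comp (Ext.mk₀ ((EtCore.pullComp f t).hom.app G)) (add_zero n) := by
    rw [← hnt, Ext.comp_assoc_of_second_deg_zero, Ext.mk₀_comp_mk₀]
    refine (Ext.comp_mk₀_id _).symm.trans ?_
    exact congrArg (fun k => Ext.comp _ (Ext.mk₀ k) (add_zero n)) hG.symm
  rw [Ext.mapExactFunctor_comp, Ext.mapExactFunctor_mk₀, h2, Ext.mk₀_comp_mk₀_assoc, ← Ext.comp_assoc_of_third_deg_zero,
    Ext.mk₀_comp_mk₀_assoc, Category.assoc]
  exact congrArg (fun k => ((Ext.mk₀ k).comp (x.mapExactFunctor (EtCoh.pull (f ≫ t))) (zero_add n)).comp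
    (Ext.mk₀ ((EtCore.pullComp f t).hom.app G)) (add_zero n)) hA

/-- Pullback of classes along equal morphisms. -/
theorem Hpull_congr {a b : X ⟶ Y} (w : a = b) [PreservesFiniteLimits (EtCoh.pull a)]
    [PreservesFiniteLimits (EtCoh.pull b)] (G : EtCoh.Ab Y) (n : ℕ) (x : EtCoh.H Y G n) :
    EtCore.Hpull b G n x = ((EtCoh.HF X n).map ((EtCore.pullCongr w).hom.app G)).hom (EtCore.Hpull a G n x) := by
  subst w
  simp [EtCore.pullCongr]

/-- The transpose of a map preceded by the comparison of pullbacks. -/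
theorem homEquiv_pullComp {W : Scheme.{u}} (f : X ⟶ Y) (t : Y ⟶ W) (G : EtCoh.Ab W) (H : EtCoh.Ab X)
    (k : (EtCoh.pull f).obj ((EtCoh.pull t).obj G) ⟶ H) :
    (EtCoh.pullPushAdj (f ≫ t)).homEquiv G H ((EtCore.pullComp f t).hom.app G ≫ k) =
      (EtCoh.pullPushAdj t).homEquiv G _ ((EtCoh.pullPushAdj f).homEquiv _ H k) ≫ (EtCoh.pushComp t f).hom.app H := by
  rw [Adjunction.homEquiv_naturality_right]
  show (EtCoh.pullPushAdj (f ≫ t)).homEquiv _ _ ((Adjunction.leftAdjointUniq _ _).hom.app G) ≫ _ = _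
  rw [Adjunction.homEquiv_leftAdjointUniq_hom_app, ← Adjunction.homEquiv_unit,
    Adjunction.homEquiv_ofNatIsoRight_apply, Adjunction.comp_homEquiv]
  rfl

theorem pushCongr_refl (a : X ⟶ Y) (H : EtCoh.Ab X) : (EtCoh.pushCongr (rfl : a = a)).hom.app H = 𝟙 _ := by
  apply ObjectProperty.hom_ext
  apply NatTrans.ext
  funext V
  show H.obj.map (((MorphismProperty.Over.pullbackCongr (P := EtCoh.etaleMP) (Q := ⊤) (rfl : a = a)).inv.app V.unop).op) = 𝟙 _
  have hq : (MorphismProperty.Over.pullbackCongr (P := EtCoh.etaleMP) (Q := ⊤) (rfl : a = a)).inv.app V.unop = 𝟙 _ := by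
    apply MorphismProperty.Over.Hom.ext
    simp [MorphismProperty.Over.pullbackCongr]
    rfl
  rw [hq]
  exact H.obj.map_id _

theorem homEquiv_pullCongr {a b : X ⟶ Y} (w : a = b) (G : EtCoh.Ab Y) (H : EtCoh.Ab X)
    (k : (EtCoh.pull b).obj G ⟶ H) :
    (EtCoh.pullPushAdj a).homEquiv G H ((EtCore.pullCongr w).hom.app G ≫ k) =
      (EtCoh.pullPushAdj b).homEquiv G H k ≫ (EtCoh.pushCongr w.symm).hom.app H := by
  subst w
  simp only [EtCore.pullCongr, eqToIso_refl, Iso.refl_hom, NatTrans.id_app, Category.id_comp]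
  rw [pushCongr_refl, Category.comp_id]

end Groth.Agent.H26EtPull
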